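import Cfsg.Agent.H415.C3.KitTwo
import Cfsg.Agent.H415.C3.LKit

/-!
# S1920, case B: 2-groups, homomorphisms and the element `r` for the lifted kit (helper560)

In `G`:
* `Kit.T5'` : a 2-element `a` of `C_G(N0)` satisfies `a ^ 4 ∈ ⟨s⟩`;
* `Kit.T5e`, `Kit.T5gen` : for a 2-group `W ≤ C_G(N0)` the index `|W : W ∩ ⟨s⟩|` divides 8, and is not 8 if `W` is abelian.

Lifted (`scS sh` = the elements `c • sh ^ i`):
* `LKit.mem_zs` : `π g ∈ ⟨s⟩ ↔ g ∈ scS sh`;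
* `LKit.comm_of_sc` (T6s) : if `sh` commutes with `Nh`, then every `g` commuting with `Nh` up to scalars commutes with `Nh`;
* `LKit.T5`, `LKit.T5'`, `LKit.T5e`, `LKit.T5gen`, `LKit.T6`, `LKit.T7`.
-/

set_option autoImplicit false

open Subgroup Equiv.Perm
open scoped commutatorElement Pointwise

namespace Cfsg.Agent.H415.C3

theorem pow_sixty (σ : Equiv.Perm (Fin 6)) : σ ^ 60 = 1 := by
  apply orderOf_dvd_iff_pow_eq_one.1
  rw [← σ.lcm_cycleType, Multiset.lcm_dvd]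
  intro b hb
  have h1 : b ≤ 6 := (Equiv.Perm.le_card_support_of_mem_cycleType hb).trans (by
    have := Finset.card_le_univ σ.support
    simpa using this)
  have h2 : 2 ≤ b := Equiv.Perm.two_le_of_mem_cycleType hb
  interval_cases b <;> decide

/-- 2-elements of `S₆` have order dividing 4 -/
theorem pow_four_of_two {σ : Equiv.Perm (Fin 6)} {k : ℕ} (h : σ ^ 2 ^ k = 1) : σ ^ 4 = 1 := by
  apply orderOf_dvd_iff_pow_eq_one.1
  have h1 : orderOf σ ∣ 2 ^ k := orderOf_dvd_of_pow_eq_one h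
  have h2 : orderOf σ ∣ 4 * 15 := orderOf_dvd_of_pow_eq_one (pow_sixty σ)
  have h3 : (orderOf σ).Coprime 15 := by
    refine Nat.Coprime.coprime_dvd_left h1 ?_
    exact Nat.Coprime.pow_left k (by decide)
  exact h3.dvd_of_dvd_mul_right h2

/-- 2-groups in `A₆` have order dividing 8 -/
theorem card_dvd_eight (W : Subgroup (alternatingGroup (Fin 6))) (hW : IsPGroup 2 W) : Nat.card W ∣ 8 := by
  have h2 : Fact (Nat.Prime 2) := ⟨Nat.prime_two⟩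
  obtain ⟨j, hj⟩ := (IsPGroup.iff_card (p := 2)).1 hW
  have h3 : Nat.card W ∣ 8 * 45 := by
    have := Subgroup.card_subgroup_dvd_card W
    rwa [card_A6] at this
  rw [hj] at h3 ⊢
  exact (Nat.Coprime.pow_left j (by decide)).dvd_of_dvd_mul_right h3

variable {G : Type*} [Group G]

namespace Kit

variable {N0 A E : Subgroup G} {z s x r : G} {ψ : ↥A →* Equiv.Perm (Fin 6)}

/-- **T5'** : the fourth power of a 2-element of `C_G(N0)` lies in `⟨s⟩`. -/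
theorem T5' [Finite G] (K : Kit N0 A E z s x r ψ) {a : G} (ha : ∀ n ∈ N0, a * n = n * a) {k : ℕ}
    (hk : a ^ 2 ^ k = 1) : a ^ 4 ∈ zpowers s := by
  have hc : ∀ n ∈ N0, a ^ 4 * n = n * a ^ 4 := fun n hn => ((show Commute a n from ha n hn).pow_left 4).eq
  refine K.T4 (k := k) hc ?_ ?_
  · rw [← pow_mul, mul_comm, pow_mul, hk, one_pow]
  · have h1 : (⟨a ^ 4, K.comm_mem hc⟩ : ↥A) = (⟨a, K.comm_mem ha⟩ : ↥A) ^ 4 := rfl
    rw [h1, map_pow]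
    refine pow_four_of_two (k := k) ?_
    rw [← map_pow, ← map_one ψ]
    exact congrArg ψ (Subtype.ext hk)

/-- the action of a 2-subgroup of `C_G(N0)` -/
theorem exists_act [Finite G] (K : Kit N0 A E z s x r ψ) (W : Subgroup G) (hW : ∀ w ∈ W, ∀ n ∈ N0, w * n = n * w)
    (h2 : ∀ w ∈ W, ∃ k : ℕ, w ^ 2 ^ k = 1) :
    ∃ f : ↥W →* alternatingGroup (Fin 6), f.ker = (zpowers s).subgroupOf W := by
  have hWA : W ≤ A := fun w hw => K.comm_mem (hW w hw)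
  let f : ↥W →* alternatingGroup (Fin 6) := (ψ.comp (inclusion hWA)).codRestrict (alternatingGroup (Fin 6)) (by
    intro w
    rw [mem_alternatingGroup]
    exact K.even_of_comm (hW w w.2) _)
  refine ⟨f, ?_⟩
  ext w
  rw [MonoidHom.mem_ker, mem_subgroupOf]
  have h3 : f w = 1 ↔ ψ ⟨w, hWA w.2⟩ = 1 := by
    constructor
    · intro h; exact congrArg Subtype.val h
    · intro h; exact Subtype.ext h
  rw [h3]
  constructor
  · intro h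
    obtain ⟨k, hk⟩ := h2 w w.2
    exact K.T4 (hW w w.2) hk h
  · intro h
    refine K.N_ker _ _ ?_
    exact (zpowers_le.2 K.sN) h

theorem isP_range {W : Subgroup G} (h2 : ∀ w ∈ W, ∃ k : ℕ, w ^ 2 ^ k = 1) (f : ↥W →* alternatingGroup (Fin 6)) :
    IsPGroup 2 f.range := by
  rintro ⟨_, ⟨w, rfl⟩⟩
  obtain ⟨k, hk⟩ := h2 w w.2
  refine ⟨k, Subtype.ext ?_⟩
  change (f w) ^ 2 ^ k = 1
  rw [← map_pow, ← map_one f]
  exact congrArg f (Subtype.ext hk)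

/-- **T5e**, index form -/
theorem T5e_rel [Finite G] (K : Kit N0 A E z s x r ψ) (W : Subgroup G) (hW : ∀ w ∈ W, ∀ n ∈ N0, w * n = n * w)
    (h2 : ∀ w ∈ W, ∃ k : ℕ, w ^ 2 ^ k = 1) : (zpowers s).relIndex W ∣ 8 := by
  obtain ⟨f, hf⟩ := K.exists_act W hW h2
  rw [relIndex, ← hf, index_ker]
  exact card_dvd_eight _ (isP_range h2 f)

/-- **T5gen**, index form -/
theorem T5gen_rel [Finite G] (K : Kit N0 A E z s x r ψ) (W : Subgroup G) (hW : ∀ w ∈ W, ∀ n ∈ N0, w * n = n * w)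
    (hab : ∀ a ∈ W, ∀ b ∈ W, a * b = b * a) (h2 : ∀ w ∈ W, ∃ k : ℕ, w ^ 2 ^ k = 1) :
    (zpowers s).relIndex W ≠ 8 := by
  obtain ⟨f, hf⟩ := K.exists_act W hW h2
  rw [relIndex, ← hf, index_ker]
  refine no_abelian8 _ ?_
  rintro _ ⟨a, rfl⟩ _ ⟨b, rfl⟩
  rw [← map_mul, ← map_mul]
  exact congrArg f (Subtype.ext (hab a a.2 b b.2))

theorem card_inf_mul (W Z : Subgroup G) : Nat.card W = Z.relIndex W * Nat.card (W ⊓ Z : Subgroup G) := by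
  have h1 := (Z.subgroupOf W).card_mul_index
  have h2 : Nat.card (Z.subgroupOf W) = Nat.card (W ⊓ Z : Subgroup G) := by
    rw [← inf_subgroupOf_left]
    exact Nat.card_congr (subgroupOfEquivOfLe inf_le_left).toEquiv
  rw [← h1, h2, relIndex, mul_comm]

/-- **T5e** : a 2-group `W ≤ C_G(N0)` has `|W|` dividing `8 |W ∩ ⟨s⟩|`. -/
theorem T5e [Finite G] (K : Kit N0 A E z s x r ψ) (W : Subgroup G) (hW : ∀ w ∈ W, ∀ n ∈ N0, w * n = n * w)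
    (h2 : IsPGroup 2 W) : Nat.card W ∣ 8 * Nat.card (W ⊓ zpowers s : Subgroup G) := by
  rw [card_inf_mul W (zpowers s)]
  refine mul_dvd_mul_right (K.T5e_rel W hW fun w hw => ?_) _
  obtain ⟨k, hk⟩ := h2 ⟨w, hw⟩
  exact ⟨k, congrArg Subtype.val hk⟩

/-- **T5gen** : an abelian 2-group `W ≤ C_G(N0)` has `|W| ≠ 8 |W ∩ ⟨s⟩|`. -/
theorem T5gen [Finite G] (K : Kit N0 A E z s x r ψ) (W : Subgroup G) (hW : ∀ w ∈ W, ∀ n ∈ N0, w * n = n * w)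
    (hab : ∀ a ∈ W, ∀ b ∈ W, a * b = b * a) (h2 : IsPGroup 2 W) :
    Nat.card W ≠ 8 * Nat.card (W ⊓ zpowers s : Subgroup G) := by
  intro h
  rw [card_inf_mul W (zpowers s)] at h
  have h3 : 0 < Nat.card (W ⊓ zpowers s : Subgroup G) := Nat.card_pos
  refine K.T5gen_rel W hW hab (fun w hw => ?_) (Nat.eq_of_mul_eq_mul_right h3 h)
  obtain ⟨k, hk⟩ := h2 ⟨w, hw⟩
  exact ⟨k, congrArg Subtype.val hk⟩

end Kit

/-! ### scalars -/

section sc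

variable {K : Type*} [Field K] {V : Type*} [AddCommGroup V] [Module K V]

theorem IsSc.comm {g : V ≃ₗ[K] V} (h : IsSc g) (a : V ≃ₗ[K] V) : g * a = a * g := by
  obtain ⟨c, hc⟩ := h
  ext v
  change g (a v) = a (g v)
  rw [hc, hc, map_smul]

theorem isSc_one : IsSc (1 : V ≃ₗ[K] V) := ⟨1, fun v => by rw [one_smul]; rfl⟩

theorem isSc_of {a b : V ≃ₗ[K] V} {c : K} (h : ∀ v, a v = c • b v) : IsSc (a * b⁻¹) := by
  refine ⟨c, fun v => ?_⟩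
  change a (b⁻¹ v) = c • v
  rw [h]
  congr 1
  exact b.apply_symm_apply v

theorem exists_smul_of_isSc {a b : V ≃ₗ[K] V} (h : IsSc (a * b⁻¹)) : ∃ c : K, ∀ v, a v = c • b v := by
  obtain ⟨c, hc⟩ := h
  refine ⟨c, fun v => ?_⟩
  have h1 := hc (b v)
  have h2 : (a * b⁻¹) (b v) = a v := by
    change a (b⁻¹ (b v)) = a v
    congr 1
    exact b.symm_apply_apply v
  rw [← h2, h1]

theorem zero_of {a b : V ≃ₗ[K] V} (h : ∀ v, a v = (0 : K) • b v) (v : V) : v = 0 := by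
  have h1 := h v
  rw [zero_smul] at h1
  exact (LinearEquiv.map_eq_zero_iff a).1 h1

/-- the group of the elements `c • t ^ i` -/
def scS (t : V ≃ₗ[K] V) : Subgroup (V ≃ₗ[K] V) where
  carrier := {g | ∃ (c : K) (i : ℤ), ∀ v, g v = c • (t ^ i) v}
  one_mem' := ⟨1, 0, fun v => by rw [one_smul, zpow_zero]⟩
  mul_mem' := by
    rintro a b ⟨c, i, h⟩ ⟨d, j, h'⟩
    refine ⟨c * d, i + j, fun v => ?_⟩
    change a (b v) = _
    rw [h', map_smul, h, smul_smul, mul_comm d c, zpow_add]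
    rfl
  inv_mem' := by
    rintro a ⟨c, i, h⟩
    rcases eq_or_ne c 0 with rfl | hc
    · refine ⟨1, 0, fun v => ?_⟩
      rw [zero_of h (a⁻¹ v), zero_of h v]
      simp
    · refine ⟨c⁻¹, -i, fun v => ?_⟩
      apply a.injective
      have h0 : a (a⁻¹ v) = v := a.apply_symm_apply v
      have h1 : (t ^ i) ((t ^ (-i)) v) = v := by
        change (t ^ i * t ^ (-i)) v = v
        rw [← zpow_add, add_neg_cancel, zpow_zero]; rfl
      rw [map_smul, h0, h ((t ^ (-i)) v), h1, smul_smul, inv_mul_cancel₀ hc, one_smul]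

theorem mem_scS {t g : V ≃ₗ[K] V} : g ∈ scS t ↔ ∃ (c : K) (i : ℤ), ∀ v, g v = c • (t ^ i) v := Iff.rfl

theorem mem_scS_iff {t g : V ≃ₗ[K] V} : g ∈ scS t ↔ ∃ i : ℤ, IsSc (g * (t ^ i)⁻¹) := by
  constructor
  · rintro ⟨c, i, h⟩
    exact ⟨i, isSc_of h⟩
  · rintro ⟨i, h⟩
    obtain ⟨c, hc⟩ := exists_smul_of_isSc h
    exact ⟨c, i, hc⟩

end sc

variable {K : Type*} [Field K] {V : Type*} [AddCommGroup V] [Module K V]
variable {Gh : Subgroup (V ≃ₗ[K] V)} {π : ↥Gh →* G}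

/-- `π` kills exactly the scalars -/
theorem Lin.eq_iff_sc (L : Lin Gh π) (a b : ↥Gh) :
    π a = π b ↔ IsSc ((a : V ≃ₗ[K] V) * (b : V ≃ₗ[K] V)⁻¹) := by
  have h := L.ker (a * b⁻¹)
  rw [map_mul, map_inv, mul_inv_eq_one] at h
  exact h

namespace LKit

variable {N0 A E : Subgroup G} {z s x r : G} {ψ : ↥A →* Equiv.Perm (Fin 6)}
variable {Nh Eh : Subgroup (V ≃ₗ[K] V)} {zh sh xh rh : V ≃ₗ[K] V}

theorem N_le (T : LKit Gh π N0 A E z s x r Nh Eh zh sh xh rh) : Nh ≤ Gh := fun n hn => ((T.mem_Nh n).1 hn).1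

theorem pi_N (T : LKit Gh π N0 A E z s x r Nh Eh zh sh xh rh) {n : V ≃ₗ[K] V} (hn : n ∈ Nh) (h : n ∈ Gh) :
    π ⟨n, h⟩ ∈ N0 := ((T.mem_Nh n).1 hn).2

theorem exists_N (L : Lin Gh π) (T : LKit Gh π N0 A E z s x r Nh Eh zh sh xh rh) {n : G} (hn : n ∈ N0) :
    ∃ m ∈ Nh, ∀ h : m ∈ Gh, π ⟨m, h⟩ = n := by
  obtain ⟨⟨m, hm⟩, rfl⟩ := L.surj n
  exact ⟨m, (T.mem_Nh m).2 ⟨hm, hn⟩, fun _ => rfl⟩

/-- elements of `Gh` commuting with `Nh` up to scalars -/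
theorem comm_pi (L : Lin Gh π) (T : LKit Gh π N0 A E z s x r Nh Eh zh sh xh rh) {g : V ≃ₗ[K] V} (hg : g ∈ Gh)
    (h : ∀ n ∈ Nh, ∃ c : K, ∀ v, (g * n) v = c • (n * g) v) : ∀ n ∈ N0, π ⟨g, hg⟩ * n = n * π ⟨g, hg⟩ := by
  intro n hn
  obtain ⟨m, hm, hmn⟩ := T.exists_N L hn
  obtain ⟨c, hc⟩ := h m hm
  have hmG := T.N_le hm
  rw [← hmn hmG, ← map_mul, ← map_mul, L.eq_iff_sc]
  exact isSc_of hc

theorem comm_pi' (L : Lin Gh π) (T : LKit Gh π N0 A E z s x r Nh Eh zh sh xh rh) {g : V ≃ₗ[K] V} (hg : g ∈ Gh)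
    (h : ∀ n ∈ Nh, g * n = n * g) : ∀ n ∈ N0, π ⟨g, hg⟩ * n = n * π ⟨g, hg⟩ :=
  T.comm_pi L hg fun n hn => ⟨1, fun v => by rw [one_smul, h n hn]⟩

theorem pi_zpow (T : LKit Gh π N0 A E z s x r Nh Eh zh sh xh rh) (i : ℤ) (h : sh ^ i ∈ Gh) : π ⟨sh ^ i, h⟩ = s ^ i := by
  have hs : sh ∈ Gh := T.N_le T.sN
  have h1 : (⟨sh ^ i, h⟩ : ↥Gh) = (⟨sh, hs⟩ : ↥Gh) ^ i := Subtype.ext (by simp)
  rw [h1, map_zpow, T.pi_s hs]

/-- **`π g ∈ ⟨s⟩`** -/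
theorem mem_zs (L : Lin Gh π) (T : LKit Gh π N0 A E z s x r Nh Eh zh sh xh rh) {g : V ≃ₗ[K] V} (hg : g ∈ Gh) :
    π ⟨g, hg⟩ ∈ zpowers s ↔ g ∈ scS sh := by
  have hs : sh ∈ Gh := T.N_le T.sN
  rw [mem_scS_iff, mem_zpowers_iff]
  refine exists_congr fun i => ?_
  have hsi : sh ^ i ∈ Gh := zpow_mem hs i
  rw [← T.pi_zpow i hsi, eq_comm, L.eq_iff_sc]

/-- **T5'** : if `g` commutes with `Nh` and is a 2-element modulo scalars, then `g ^ 4 ∈ K^* ⟨sh⟩`. -/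
theorem T5' [Finite G] (kt : Kit N0 A E z s x r ψ) (L : Lin Gh π) (T : LKit Gh π N0 A E z s x r Nh Eh zh sh xh rh)
    {g : V ≃ₗ[K] V} (hg : g ∈ Gh) (h : ∀ n ∈ Nh, g * n = n * g) {k : ℕ} (hk : IsSc (g ^ 2 ^ k)) :
    ∃ (c : K) (i : ℤ), ∀ v, (g ^ 4) v = c • (sh ^ i) v := by
  have h1 : (π ⟨g, hg⟩) ^ 2 ^ k = 1 := by
    rw [← map_pow, L.ker]
    simpa using hk
  have h2 := kt.T5' (T.comm_pi' L hg h) h1
  rw [← map_pow] at h2
  have h3 : (⟨g, hg⟩ : ↥Gh) ^ 4 = ⟨g ^ 4, pow_mem hg 4⟩ := rfl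
  rw [h3, T.mem_zs L] at h2
  exact h2

/-- **T5** -/
theorem T5 [Finite G] (kt : Kit N0 A E z s x r ψ) (L : Lin Gh π) (T : LKit Gh π N0 A E z s x r Nh Eh zh sh xh rh)
    {a b : V ≃ₗ[K] V} (ha : a ∈ Gh) (hb : b ∈ Gh) (haN : ∀ n ∈ Nh, a * n = n * a) (hbN : ∀ n ∈ Nh, b * n = n * b)
    (hab : a * b = b * a) (ha4 : IsSc (a ^ 4)) (hb2 : IsSc (b ^ 2))
    (h : ∀ i j : ℕ, (∃ (c : K) (k : ℤ), ∀ v, (a ^ i * b ^ j) v = c • (sh ^ k) v) → 4 ∣ i ∧ 2 ∣ j) : False := by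
  refine kt.T5 (a := π ⟨a, ha⟩) (b := π ⟨b, hb⟩) (T.comm_pi' L ha haN) (T.comm_pi' L hb hbN) ?_ ?_ ?_ ?_
  · rw [← map_mul, ← map_mul]
    exact congrArg π (Subtype.ext hab)
  · rw [← map_pow, L.ker]; simpa using ha4
  · rw [← map_pow, L.ker]; simpa using hb2
  · intro i j hij
    apply h i j
    rw [← map_pow, ← map_pow, ← map_mul] at hij
    have h3 : (⟨a, ha⟩ : ↥Gh) ^ i * (⟨b, hb⟩ : ↥Gh) ^ j = ⟨a ^ i * b ^ j, mul_mem (pow_mem ha i) (pow_mem hb j)⟩ := rfl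
    rw [h3, T.mem_zs L] at hij
    exact hij

/-- the index of `K^* ⟨sh⟩` -/
theorem relIndex_eq (L : Lin Gh π) (T : LKit Gh π N0 A E z s x r Nh Eh zh sh xh rh) (W : Subgroup (V ≃ₗ[K] V))
    (hW : W ≤ Gh) : (zpowers s).relIndex ((W.subgroupOf Gh).map π) = (scS sh).relIndex W := by
  rw [← relIndex_comap, ← relIndex_subgroupOf hW]
  congr 1
  ext ⟨g, hg⟩
  rw [mem_comap, T.mem_zs L hg, mem_subgroupOf]

theorem map_comm (L : Lin Gh π) (T : LKit Gh π N0 A E z s x r Nh Eh zh sh xh rh) (W : Subgroup (V ≃ₗ[K] V))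
    (hN : ∀ w ∈ W, ∀ n ∈ Nh, w * n = n * w) : ∀ w ∈ (W.subgroupOf Gh).map π, ∀ n ∈ N0, w * n = n * w := by
  rintro _ ⟨⟨w, hw⟩, hwW, rfl⟩ n hn
  exact T.comm_pi' L hw (hN w (mem_subgroupOf.1 hwW)) n hn

theorem map_two (L : Lin Gh π) (W : Subgroup (V ≃ₗ[K] V)) (h2 : ∀ w ∈ W, ∃ k : ℕ, IsSc (w ^ 2 ^ k)) :
    ∀ w ∈ (W.subgroupOf Gh).map π, ∃ k : ℕ, w ^ 2 ^ k = 1 := by
  rintro _ ⟨⟨w, hw⟩, hwW, rfl⟩
  obtain ⟨k, hk⟩ := h2 w (mem_subgroupOf.1 hwW)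
  refine ⟨k, ?_⟩
  rw [← map_pow, L.ker]
  simpa using hk

/-- **T5e**, index form -/
theorem T5e_rel [Finite G] (kt : Kit N0 A E z s x r ψ) (L : Lin Gh π)
    (T : LKit Gh π N0 A E z s x r Nh Eh zh sh xh rh) (W : Subgroup (V ≃ₗ[K] V)) (hW : W ≤ Gh)
    (hN : ∀ w ∈ W, ∀ n ∈ Nh, w * n = n * w) (h2 : ∀ w ∈ W, ∃ k : ℕ, IsSc (w ^ 2 ^ k)) :
    (scS sh).relIndex W ∣ 8 := by
  rw [← T.relIndex_eq L W hW]
  exact kt.T5e_rel _ (T.map_comm L W hN) (map_two L W h2)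

/-- **T5gen**, index form -/
theorem T5gen_rel [Finite G] (kt : Kit N0 A E z s x r ψ) (L : Lin Gh π)
    (T : LKit Gh π N0 A E z s x r Nh Eh zh sh xh rh) (W : Subgroup (V ≃ₗ[K] V)) (hW : W ≤ Gh)
    (hN : ∀ w ∈ W, ∀ n ∈ Nh, w * n = n * w) (hab : ∀ a ∈ W, ∀ b ∈ W, a * b = b * a)
    (h2 : ∀ w ∈ W, ∃ k : ℕ, IsSc (w ^ 2 ^ k)) : (scS sh).relIndex W ≠ 8 := by
  rw [← T.relIndex_eq L W hW]
  refine kt.T5gen_rel _ (T.map_comm L W hN) ?_ (map_two L W h2)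
  rintro _ ⟨⟨a, ha⟩, haW, rfl⟩ _ ⟨⟨b, hb⟩, hbW, rfl⟩
  rw [← map_mul, ← map_mul]
  exact congrArg π (Subtype.ext (hab a (mem_subgroupOf.1 haW) b (mem_subgroupOf.1 hbW)))

theorem isSc_of_isP {W : Subgroup (V ≃ₗ[K] V)} (h2 : IsPGroup 2 W) : ∀ w ∈ W, ∃ k : ℕ, IsSc (w ^ 2 ^ k) := by
  intro w hw
  obtain ⟨k, hk⟩ := h2 ⟨w, hw⟩
  have h3 : w ^ 2 ^ k = 1 := congrArg Subtype.val hk
  exact ⟨k, h3 ▸ isSc_one⟩

/-- **T5e** : `|W|` divides `8 |W ∩ K^* ⟨sh⟩|` -/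
theorem T5e [Finite G] (kt : Kit N0 A E z s x r ψ) (L : Lin Gh π)
    (T : LKit Gh π N0 A E z s x r Nh Eh zh sh xh rh) (W : Subgroup (V ≃ₗ[K] V)) (hW : W ≤ Gh)
    (hN : ∀ w ∈ W, ∀ n ∈ Nh, w * n = n * w) (h2 : IsPGroup 2 W) :
    Nat.card W ∣ 8 * Nat.card (W ⊓ scS sh : Subgroup (V ≃ₗ[K] V)) := by
  rw [Kit.card_inf_mul W (scS sh)]
  exact mul_dvd_mul_right (T.T5e_rel kt L W hW hN (isSc_of_isP h2)) _

/-- **T5gen** : `|W| ≠ 8 |W ∩ K^* ⟨sh⟩|` for abelian `W` -/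
theorem T5gen [Finite G] (kt : Kit N0 A E z s x r ψ) (L : Lin Gh π)
    (T : LKit Gh π N0 A E z s x r Nh Eh zh sh xh rh) (W : Subgroup (V ≃ₗ[K] V)) [Finite W] (hW : W ≤ Gh)
    (hN : ∀ w ∈ W, ∀ n ∈ Nh, w * n = n * w) (hab : ∀ a ∈ W, ∀ b ∈ W, a * b = b * a) (h2 : IsPGroup 2 W) :
    Nat.card W ≠ 8 * Nat.card (W ⊓ scS sh : Subgroup (V ≃ₗ[K] V)) := by
  intro h
  rw [Kit.card_inf_mul W (scS sh)] at h
  have : Finite (W ⊓ scS sh : Subgroup (V ≃ₗ[K] V)) :=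
    Finite.of_injective (inclusion (inf_le_left : W ⊓ scS sh ≤ W)) (inclusion_injective _)
  have h3 : 0 < Nat.card (W ⊓ scS sh : Subgroup (V ≃ₗ[K] V)) := Nat.card_pos
  exact T.T5gen_rel kt L W hW hN hab (isSc_of_isP h2) (Nat.eq_of_mul_eq_mul_right h3 h)

/-- elements over `C_G(N0)` are, up to `Eh`, of odd order modulo `K^* ⟨sh⟩` -/
theorem decomp [Finite G] (kt : Kit N0 A E z s x r ψ) (L : Lin Gh π)
    (T : LKit Gh π N0 A E z s x r Nh Eh zh sh xh rh) {g : V ≃ₗ[K] V} (hg : g ∈ Gh)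
    (hc : ∀ n ∈ N0, π ⟨g, hg⟩ * n = n * π ⟨g, hg⟩) :
    ∃ e ∈ Eh, ∃ m : ℕ, Odd m ∧ (e⁻¹ * g) ^ m ∈ scS sh := by
  obtain ⟨e, he, heψ⟩ := kt.E_img (ψ ⟨π ⟨g, hg⟩, kt.comm_mem hc⟩) (kt.even_of_comm hc _)
  obtain ⟨eh, heh, hpe⟩ := T.Eh_surj e he
  have hehG : eh ∈ Gh := T.Eh_le heh
  have hkG : eh⁻¹ * g ∈ Gh := mul_mem (inv_mem hehG) hg
  have hpk : π ⟨eh⁻¹ * g, hkG⟩ = e⁻¹ * π ⟨g, hg⟩ := by
    have h1 : (⟨eh⁻¹ * g, hkG⟩ : ↥Gh) = (⟨eh, hehG⟩ : ↥Gh)⁻¹ * ⟨g, hg⟩ := rfl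
    rw [h1, map_mul, map_inv, hpe]
  have hkc : ∀ n ∈ N0, π ⟨eh⁻¹ * g, hkG⟩ * n = n * π ⟨eh⁻¹ * g, hkG⟩ := by
    intro n hn
    rw [hpk]
    have h1 : Commute e n := kt.E_comm e he n hn
    exact (h1.inv_left.mul_left (show Commute (π ⟨g, hg⟩) n from hc n hn)).eq
  have hk1 : ψ ⟨π ⟨eh⁻¹ * g, hkG⟩, kt.comm_mem hkc⟩ = 1 := by
    have h1 : (⟨π ⟨eh⁻¹ * g, hkG⟩, kt.comm_mem hkc⟩ : ↥A) =
        (⟨e, kt.E_A he⟩ : ↥A)⁻¹ * ⟨π ⟨g, hg⟩, kt.comm_mem hc⟩ := Subtype.ext hpk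
    rw [h1, map_mul, map_inv, heψ (kt.E_A he), inv_mul_cancel]
  obtain ⟨t, m, hm, hkm⟩ := Nat.exists_eq_two_pow_mul_odd (orderOf_pos (π ⟨eh⁻¹ * g, hkG⟩)).ne'
  refine ⟨eh, heh, m, hm, ?_⟩
  have h2 : (π ⟨eh⁻¹ * g, hkG⟩) ^ m ∈ zpowers s := by
    have hcm : ∀ n ∈ N0, (π ⟨eh⁻¹ * g, hkG⟩) ^ m * n = n * (π ⟨eh⁻¹ * g, hkG⟩) ^ m := fun n hn =>
      ((show Commute (π ⟨eh⁻¹ * g, hkG⟩) n from hkc n hn).pow_left m).eq
    refine kt.T4 (k := t) hcm ?_ ?_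
    · rw [← pow_mul, mul_comm m, ← hkm, pow_orderOf_eq_one]
    · have h3 : (⟨(π ⟨eh⁻¹ * g, hkG⟩) ^ m, kt.comm_mem hcm⟩ : ↥A) =
          (⟨π ⟨eh⁻¹ * g, hkG⟩, kt.comm_mem hkc⟩ : ↥A) ^ m := rfl
      rw [h3, map_pow, hk1, one_pow]
  rw [← map_pow] at h2
  exact (T.mem_zs L (pow_mem hkG m)).1 h2

/-- **T6** : a homomorphism `C_Gh(Nh) → {±1}` trivial on the scalars and on `sh` is trivial. -/
theorem T6 [Finite G] (kt : Kit N0 A E z s x r ψ) (L : Lin Gh π)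
    (T : LKit Gh π N0 A E z s x r Nh Eh zh sh xh rh) (hs : ∀ n ∈ Nh, sh * n = n * sh)
    (f : ↥(Gh ⊓ centralizer (Nh : Set (V ≃ₗ[K] V))) →* ℤˣ) (hsc : ∀ g : ↥(Gh ⊓ centralizer (Nh : Set (V ≃ₗ[K] V))), IsSc (g : V ≃ₗ[K] V) → f g = 1)
    (hfs : ∀ h, f ⟨sh, h⟩ = 1) (g : ↥(Gh ⊓ centralizer (Nh : Set (V ≃ₗ[K] V)))) : f g = 1 := by
  have hcen : ∀ y : V ≃ₗ[K] V, y ∈ centralizer (Nh : Set (V ≃ₗ[K] V)) ↔ ∀ n ∈ Nh, y * n = n * y := by
    intro y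
    rw [mem_centralizer_iff]
    exact ⟨fun h n hn => (h n hn).symm, fun h n hn => (h n hn).symm⟩
  have hEC : Eh ≤ Gh ⊓ centralizer (Nh : Set (V ≃ₗ[K] V)) := fun e he =>
    ⟨T.Eh_le he, (hcen e).2 fun n hn => T.Eh_comm e he n hn⟩
  have hsC : sh ∈ Gh ⊓ centralizer (Nh : Set (V ≃ₗ[K] V)) := ⟨T.N_le T.sN, (hcen sh).2 hs⟩
  have hfE : ∀ e (he : e ∈ Eh), f ⟨e, hEC he⟩ = 1 := by
    have hle : Eh ≤ (f.ker).map (Gh ⊓ centralizer (Nh : Set (V ≃ₗ[K] V))).subtype := by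
      conv_lhs => rw [← T.Eh_perf]
      rw [commutator_le]
      intro u hu v hv
      refine ⟨⁅(⟨u, hEC hu⟩ : ↥(Gh ⊓ centralizer (Nh : Set (V ≃ₗ[K] V)))), ⟨v, hEC hv⟩⁆, ?_, rfl⟩
      rw [SetLike.mem_coe, MonoidHom.mem_ker, map_commutatorElement, commutatorElement_eq_one_iff_mul_comm]
      exact mul_comm _ _
    intro e he
    obtain ⟨w, hw, hwe⟩ := hle he
    have : w = ⟨e, hEC he⟩ := Subtype.ext hwe
    rw [← this]
    exact hw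
  obtain ⟨e, he, m, hm, hem⟩ := T.decomp kt L g.2.1 (T.comm_pi' L g.2.1 ((hcen _).1 g.2.2))
  let k : ↥(Gh ⊓ centralizer (Nh : Set (V ≃ₗ[K] V))) := (⟨e, hEC he⟩ : ↥(Gh ⊓ centralizer (Nh : Set (V ≃ₗ[K] V))))⁻¹ * g
  have hfk : f k = 1 := by
    obtain ⟨i, hi⟩ := mem_scS_iff.1 hem
    have h4 : f (k ^ m * ((⟨sh, hsC⟩ : ↥(Gh ⊓ centralizer (Nh : Set (V ≃ₗ[K] V)))) ^ i)⁻¹) = 1 := hsc _ hi
    rw [map_mul, map_inv, map_zpow, hfs hsC, one_zpow, inv_one, mul_one, map_pow] at h4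
    rcases Int.units_eq_one_or (f k) with h5 | h5
    · exact h5
    · rw [h5, hm.neg_one_pow] at h4
      exact absurd h4 (by decide)
  have hg : g = (⟨e, hEC he⟩ : ↥(Gh ⊓ centralizer (Nh : Set (V ≃ₗ[K] V)))) * k := by
    change g = _ * (_⁻¹ * g)
    rw [mul_inv_cancel_left]
  rw [hg, map_mul, hfE e he, hfk, mul_one]

/-- an element commuting with `Nh` up to scalars commutes with `zh` -/
theorem comm_zh (kt : Kit N0 A E z s x r ψ) (L : Lin Gh π) (T : LKit Gh π N0 A E z s x r Nh Eh zh sh xh rh)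
    {g : V ≃ₗ[K] V} (h : ∀ n ∈ Nh, IsSc (g * n * (n * g)⁻¹)) : g * zh = zh * g := by
  -- two noncommuting elements of `N0`
  obtain ⟨n0, hn0, m0, hm0, hne⟩ : ∃ n ∈ N0, ∃ m ∈ N0, n * m ≠ m * n := by
    by_contra hcon
    push Not at hcon
    have h1 : N0 ≤ zpowers s := fun n hn => kt.cen n hn (hcon n hn)
    have h2 : Nat.card N0 ∣ Nat.card (zpowers s) := Subgroup.card_dvd_of_le h1
    rw [kt.card, Nat.card_zpowers] at h2
    have h3 : orderOf s ∣ 4 := orderOf_dvd_of_pow_eq_one kt.s_four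
    have h4 := Nat.le_of_dvd (by norm_num) (h2.trans h3)
    omega
  obtain ⟨n, hn, hnn⟩ := T.exists_N L hn0
  obtain ⟨m, hm, hmm⟩ := T.exists_N L hm0
  have hnG := T.N_le hn
  have hmG := T.N_le hm
  obtain ⟨c, -, hc | hc⟩ := T.comm n hn m hm
  · exfalso
    apply hne
    rw [← hnn hnG, ← hmm hmG, ← map_mul, ← map_mul, L.eq_iff_sc]
    exact isSc_of hc
  · -- `n m = u zh m n`
    obtain ⟨u, hu, h1⟩ : ∃ u, IsSc u ∧ u * zh = n * m * n⁻¹ * m⁻¹ := ⟨n * m * (zh * m * n)⁻¹, isSc_of hc, by group⟩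
    -- conjugation by `g`
    obtain ⟨a, ha, h2⟩ : ∃ a, IsSc a ∧ g * n * g⁻¹ = a * n := ⟨g * n * (n * g)⁻¹, h n hn, by group⟩
    obtain ⟨b, hb, h3⟩ : ∃ b, IsSc b ∧ g * m * g⁻¹ = b * m := ⟨g * m * (m * g)⁻¹, h m hm, by group⟩
    have h4 : g * (u * zh) * g⁻¹ = u * zh := by
      rw [h1]
      calc g * (n * m * n⁻¹ * m⁻¹) * g⁻¹
          = (g * n * g⁻¹) * (g * m * g⁻¹) * (g * n * g⁻¹)⁻¹ * (g * m * g⁻¹)⁻¹ := by group
        _ = (a * n) * (b * m) * (a * n)⁻¹ * (b * m)⁻¹ := by rw [h2, h3]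
        _ = n * m * n⁻¹ * m⁻¹ := by
            have hn1 : a * n = n * a := ha.comm n
            have hm1 : b * m = m * b := hb.comm m
            have hai : a * (b * m) = b * m * a := ha.comm _
            have hbi : b * n⁻¹ = n⁻¹ * b := hb.comm _
            calc (a * n) * (b * m) * (a * n)⁻¹ * (b * m)⁻¹
                = n * (a * (b * m)) * a⁻¹ * n⁻¹ * (b * m)⁻¹ := by rw [hn1]; group
              _ = n * (b * m * a) * a⁻¹ * n⁻¹ * (b * m)⁻¹ := by rw [hai]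
              _ = n * m * (b * n⁻¹) * b⁻¹ * m⁻¹ := by
                  rw [hm1]
                  group
              _ = n * m * (n⁻¹ * b) * b⁻¹ * m⁻¹ := by rw [hbi]
              _ = n * m * n⁻¹ * m⁻¹ := by group
    have h5 : g * u = u * g := (hu.comm g).symm
    have h6 : g * (u * zh) = u * zh * g := by
      rw [mul_inv_eq_iff_eq_mul] at h4; exact h4
    rw [← mul_assoc, h5, mul_assoc, mul_assoc] at h6
    exact mul_left_cancel h6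

/-- **T6s** : if `sh` commutes with `Nh`, an element commuting with `Nh` up to scalars commutes with `Nh`. -/
theorem comm_of_sc [Finite G] (kt : Kit N0 A E z s x r ψ) (L : Lin Gh π)
    (T : LKit Gh π N0 A E z s x r Nh Eh zh sh xh rh) (hs : ∀ n ∈ Nh, sh * n = n * sh) {g : V ≃ₗ[K] V} (hg : g ∈ Gh)
    (h : ∀ n ∈ Nh, ∃ c : K, ∀ v, (g * n) v = c • (n * g) v) : ∀ n ∈ Nh, g * n = n * g := by
  intro n hn
  have hsc : ∀ n ∈ Nh, IsSc (g * n * (n * g)⁻¹) := fun n hn => by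
    obtain ⟨c, hc⟩ := h n hn
    exact isSc_of hc
  have hz := T.comm_zh kt L hsc
  obtain ⟨a, ha, h1⟩ : ∃ a, IsSc a ∧ g * n = a * n * g := ⟨g * n * (n * g)⁻¹, hsc n hn, by group⟩
  -- `a ^ 2 = 1`
  have h2 : a * a = 1 := by
    have h3 : g * (n * n) = (n * n) * g := by
      obtain ⟨c, -, hc | hc⟩ := T.sq n hn
      · have h4 : IsSc (n * n) := ⟨c, hc⟩
        exact (h4.comm g).symm
      · obtain ⟨u, hu, h5⟩ : ∃ u, IsSc u ∧ n * n = u * zh := ⟨n * n * zh⁻¹, isSc_of hc, by group⟩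
        rw [h5, ← mul_assoc, ← hu.comm g, mul_assoc, hz, mul_assoc]
    have h4 : g * (n * n) = a * a * (n * n) * g := by
      calc g * (n * n) = (g * n) * n := by rw [mul_assoc]
        _ = (a * n * g) * n := by rw [h1]
        _ = a * n * (g * n) := by rw [mul_assoc (a * n)]
        _ = a * n * (a * n * g) := by rw [h1]
        _ = a * (n * a) * (n * g) := by simp only [mul_assoc]
        _ = a * (a * n) * (n * g) := by rw [ha.comm n]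
        _ = a * a * (n * n) * g := by simp only [mul_assoc]
    rw [h3] at h4
    have h5 : 1 * (n * n * g) = a * a * (n * n * g) := by
      rw [one_mul]
      refine h4.trans ?_
      simp only [mul_assoc]
    exact (mul_right_cancel h5).symm
  obtain ⟨e, he, m, hm, hem⟩ := T.decomp kt L hg (T.comm_pi L hg h)
  -- `k = e⁻¹ g`
  have hk : ∀ j : ℕ, (e⁻¹ * g) ^ j * n = a ^ j * n * (e⁻¹ * g) ^ j := by
    intro j
    induction j with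
    | zero => simp
    | succ j ih =>
      have h6 : (e⁻¹ * g) * n = a * n * (e⁻¹ * g) := by
        rw [mul_assoc, h1]
        have h7 : e⁻¹ * n = n * e⁻¹ := ((show Commute e n from T.Eh_comm e he n hn).inv_left).eq
        calc e⁻¹ * (a * n * g) = (e⁻¹ * a) * (n * g) := by simp only [mul_assoc]
          _ = (a * e⁻¹) * (n * g) := by rw [ha.comm]
          _ = a * (e⁻¹ * n) * g := by simp only [mul_assoc]
          _ = a * (n * e⁻¹) * g := by rw [h7]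
          _ = _ := by simp only [mul_assoc]
      have h8 : IsSc (a ^ j) := by
        clear ih
        induction j with
        | zero => exact isSc_one
        | succ j ih =>
          obtain ⟨c, hc⟩ := ih
          obtain ⟨d, hd⟩ := ha
          refine ⟨c * d, fun v => ?_⟩
          rw [pow_succ]
          change (a ^ j) (a v) = _
          rw [hc, hd, smul_smul]
      generalize e⁻¹ * g = k at ih h6 ⊢
      calc k ^ (j + 1) * n = k ^ j * (k * n) := by rw [pow_succ, mul_assoc]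
        _ = k ^ j * (a * n * k) := by rw [h6]
        _ = (k ^ j * a) * (n * k) := by simp only [mul_assoc]
        _ = (a * k ^ j) * (n * k) := by rw [ha.comm]
        _ = a * (k ^ j * n) * k := by simp only [mul_assoc]
        _ = a * (a ^ j * n * k ^ j) * k := by rw [ih]
        _ = a ^ (j + 1) * n * k ^ (j + 1) := by rw [pow_succ' a, pow_succ k]; simp only [mul_assoc]
  have h9 : (e⁻¹ * g) ^ m * n = n * (e⁻¹ * g) ^ m := by
    obtain ⟨i, hi⟩ := mem_scS_iff.1 hem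
    have h11 : sh ^ i * n = n * sh ^ i := ((show Commute sh n from hs n hn).zpow_left i).eq
    obtain ⟨u, hu, h12⟩ : ∃ u, IsSc u ∧ (e⁻¹ * g) ^ m = u * sh ^ i := ⟨_, hi, by rw [inv_mul_cancel_right]⟩
    rw [h12, mul_assoc, h11, ← mul_assoc, ← mul_assoc, hu.comm n]
  rw [hk m] at h9
  have h10 : a ^ m = 1 := by
    have h11 : a ^ m * (n * (e⁻¹ * g) ^ m) = 1 * (n * (e⁻¹ * g) ^ m) := by
      rw [one_mul, ← mul_assoc]
      exact h9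
    exact mul_right_cancel h11
  have h11 : a = 1 := by
    obtain ⟨j, rfl⟩ := hm
    rw [pow_succ, pow_mul, pow_two, h2, one_pow, one_mul] at h10
    exact h10
  rw [h1, h11, one_mul]

/-- **T6s**, in terms of `π` -/
theorem comm_of_pi [Finite G] (kt : Kit N0 A E z s x r ψ) (L : Lin Gh π)
    (T : LKit Gh π N0 A E z s x r Nh Eh zh sh xh rh) (hs : ∀ n ∈ Nh, sh * n = n * sh) {g : V ≃ₗ[K] V} (hg : g ∈ Gh)
    (h : ∀ n ∈ N0, π ⟨g, hg⟩ * n = n * π ⟨g, hg⟩) : ∀ n ∈ Nh, g * n = n * g := by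
  refine T.comm_of_sc kt L hs hg fun n hn => ?_
  have hnG := T.N_le hn
  have h1 := h _ (T.pi_N hn hnG)
  rw [← map_mul, ← map_mul, L.eq_iff_sc] at h1
  exact exists_smul_of_isSc h1

/-- **T7** : no `g ∈ Gh` with `[g, Nh] ≤ K^* ⟨zh⟩` and `[g, sh] ∈ K^*` conjugates `xh` to `rh xh rh⁻¹`. -/
theorem T7 (kt : Kit N0 A E z s x r ψ) (L : Lin Gh π) (T : LKit Gh π N0 A E z s x r Nh Eh zh sh xh rh)
    {g : V ≃ₗ[K] V} (hg : g ∈ Gh)
    (h : ∀ n ∈ Nh, ∃ c : K, (∀ v, (g * n) v = c • (n * g) v) ∨ (∀ v, (g * n) v = c • (zh * n * g) v))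
    (hs : ∃ c : K, ∀ v, (g * sh) v = c • (sh * g) v) (hx : g * xh * g⁻¹ = rh * xh * rh⁻¹) : False := by
  have hxG : xh ∈ Gh := T.Eh_le T.xE
  have hsG : sh ∈ Gh := T.N_le T.sN
  have hzG : zh ∈ Gh := T.N_le T.zN
  have hA : π ⟨g, hg⟩ ∈ A := by
    rw [kt.mem_A]
    intro n hn
    obtain ⟨m, hm, hmn⟩ := T.exists_N L hn
    have hmG := T.N_le hm
    obtain ⟨c, hc | hc⟩ := h m hm
    · left
      rw [← hmn hmG, ← map_mul, ← map_mul, L.eq_iff_sc]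
      exact isSc_of hc
    · right
      rw [← hmn hmG, ← T.pi_z hzG, ← map_mul, ← map_mul, ← map_mul, L.eq_iff_sc]
      have h1 := isSc_of hc
      rwa [mul_assoc zh] at h1
  refine kt.T7 hA ?_ (g := π ⟨g, hg⟩) ?_
  · obtain ⟨c, hc⟩ := hs
    rw [← T.pi_s hsG, ← map_mul, ← map_mul, L.eq_iff_sc]
    exact isSc_of hc
  · rw [← T.pi_x hxG, ← T.pi_r T.rG, ← map_mul, ← map_inv, ← map_mul, ← map_mul, ← map_inv, ← map_mul]
    exact congrArg π (Subtype.ext hx)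

end LKit

end Cfsg.Agent.H415.C3
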